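import Cfsg.Agent.H441.GS.Chain
import Cfsg.Agent.S0242
import Cfsg.Agent.S0243
import Cfsg.Agent.S0245
import Cfsg.Agent.S0246
import Cfsg.Agent.S0278
import Cfsg.Agent.S0280
import Cfsg.Agent.S0286
import Cfsg.Agent.S0287
import Cfsg.Agent.S0288
import Cfsg.Agent.S0292
import Cfsg.Agent.S0293
import Cfsg.Agent.S0294
import Cfsg.Agent.Prune
set_option linter.all false
prune_inst 0x7f00000000000000000000000000000000000000000000000000000000000000000000000000000000000000000000000000000000000000000000000000000000000000000000000000000000000000003fffffffffffffffffffffffffffbeffbdffffffff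
open scoped Cfsg.Agent.FastGrp

/-!
# S4327, classical groups: numbers

`r` an odd prime.  If `r` does not divide `|L|` then `d ≤ r - 1` (`d = n + 1` for `PSL_n`, `PSU_n`, `POmega_n`, `n` odd,
`d = n + 2` for `PSp_n`, `d = n` for `POmega_n^±`).  `r` divides the orders of the natural subgroups of dimension
`≥ r - 1`.  `tri_*` : the trichotomy from `Reach x d ⊤` and the case `2 (r - 2) < d`.
-/

set_option autoImplicit false

namespace Cfsg.Agent.H919.Gs

open Cfsg Cfsg.Agent.H915.Gs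

section arith

theorem sub_one_dvd (x c : ℕ) : x - 1 ∣ x ^ c - 1 := by
  simpa only [one_pow] using Nat.sub_dvd_pow_sub_pow x 1 c

theorem fermat {q r : ℕ} (hr : r.Prime) (hq : ¬ r ∣ q) (hq0 : 0 < q) : r ∣ q ^ (r - 1) - 1 := by
  have h1 : q ^ (r - 1) ≡ 1 [MOD r] := by
    have : Nat.Coprime q r := ((Nat.Prime.coprime_iff_not_dvd hr).2 hq).symm
    have h2 := Nat.ModEq.pow_totient this
    rwa [Nat.totient_prime hr] at h2
  exact (Nat.modEq_iff_dvd' (Nat.one_le_pow _ _ hq0)).1 h1.symm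

theorem dvd_qP {q r e P : ℕ} (hr : r.Prime) (hq0 : 0 < q) (he : e ≠ 0) (hP : r ∣ q ^ (r - 1) - 1 → r ∣ P) :
    r ∣ q ^ e * P := by
  by_cases hq : r ∣ q
  · exact (hq.trans (dvd_pow_self q he)).mul_right _
  · exact (hP (fermat hr hq hq0)).mul_left _

theorem dvd_of_factor {r g N e : ℕ} {q : ℕ} (hr : r.Prime) (hq0 : 0 < q) (he : e ≠ 0) {P : ℕ}
    (h : g * N = q ^ e * P) (hg : r ∣ g → r ∣ N ∧ ¬ r ∣ q) (hP : r ∣ q ^ (r - 1) - 1 → r ∣ P) : r ∣ N := by
  have h1 : r ∣ g * N := by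
    rw [h]
    exact dvd_qP hr hq0 he hP
  rcases hr.dvd_mul.1 h1 with h2 | h2
  · exact (hg h2).1
  · exact h2

/-- the centre is small -/
theorem dvd_of_sq {g N u : ℕ} (hu : 0 < u) (hg : g ∣ u) (h : u ^ 2 ∣ g * N) : u ∣ N := by
  obtain ⟨k, rfl⟩ := hg
  obtain ⟨c, hc⟩ := h
  have hg0 : 0 < g := Nat.pos_of_mul_pos_right hu
  refine ⟨k * c, Nat.eq_of_mul_eq_mul_left hg0 ?_⟩
  rw [hc]
  ring

end arith

section lin

variable {F : Type*} [Field F] [Fintype F]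

theorem one_lt_card : 1 < Fintype.card F := Fintype.one_lt_card

theorem prod_gl {q : ℕ} (n : ℕ) :
    ∏ i : Fin n, (q ^ n - q ^ (i : ℕ)) = q ^ (n * (n - 1) / 2) * ∏ i ∈ Finset.range n, (q ^ (i + 1) - 1) := by
  rw [Fin.prod_univ_eq_prod_range (fun i => q ^ n - q ^ i) n]
  have h1 : ∀ i ∈ Finset.range n, q ^ n - q ^ i = q ^ i * (q ^ (n - i) - 1) := by
    intro i hi
    rw [Finset.mem_range] at hi
    rw [Nat.mul_sub, ← pow_add, Nat.add_sub_cancel' hi.le, mul_one]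
  rw [Finset.prod_congr rfl h1, Finset.prod_mul_distrib, Finset.prod_pow_eq_pow_sum, ← Finset.sum_range_id_mul_two]
  congr 1
  · rw [Nat.mul_div_cancel _ (by norm_num)]
  · rw [← Finset.prod_range_reflect]
    refine Finset.prod_congr rfl fun i hi => ?_
    rw [Finset.mem_range] at hi
    congr 2
    omega

theorem tri_pos {n : ℕ} (hn : 2 ≤ n) : n * (n - 1) / 2 ≠ 0 := by
  obtain ⟨m, rfl⟩ := Nat.exists_eq_add_of_le' hn
  have h1 : 2 ≤ (m + 2) * (m + 2 - 1) := by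
    have : m + 2 - 1 = m + 1 := rfl
    rw [this]
    nlinarith only []
  omega

theorem card_psl {n : ℕ} (hn : 2 ≤ n) :
    Nat.gcd n (Fintype.card F - 1) * Nat.card (Matrix.ProjectiveSpecialLinearGroup (Fin n) F) =
      Fintype.card F ^ (n * (n - 1) / 2) * ∏ i ∈ Finset.range (n - 1), (Fintype.card F ^ (i + 2) - 1) := by
  have h := S0243.result (F := F) rfl n hn
  have hq : 1 < Fintype.card F := one_lt_card
  obtain ⟨m, rfl⟩ := Nat.exists_eq_add_of_le' hn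
  rw [prod_gl, Finset.prod_range_succ', zero_add, pow_one, mul_left_comm, ← mul_assoc (_ ^ _),
    mul_comm _ (Fintype.card F - 1)] at h
  exact Nat.eq_of_mul_eq_mul_left (show 0 < Fintype.card F - 1 by omega) h

theorem card_sl {n : ℕ} (hn : 1 ≤ n) :
    Nat.card (Matrix.SpecialLinearGroup (Fin n) F) =
      Fintype.card F ^ (n * (n - 1) / 2) * ∏ i ∈ Finset.range (n - 1), (Fintype.card F ^ (i + 2) - 1) := by
  have h := S0242.result (F := F) rfl n hn
  have hq : 1 < Fintype.card F := one_lt_card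
  obtain ⟨m, rfl⟩ := Nat.exists_eq_add_of_le' hn
  rw [prod_gl, Finset.prod_range_succ', zero_add, pow_one, ← mul_assoc (_ ^ _),
    mul_comm _ (Fintype.card F - 1)] at h
  exact Nat.eq_of_mul_eq_mul_left (show 0 < Fintype.card F - 1 by omega) h

/-- `r ≤ n + 1`: `r` divides `|PSL_n(q)|` -/
theorem psl_dvd {n r : ℕ} (hn : 3 ≤ n) (hr : r.Prime) (hr2 : r ≠ 2) (h : r ≤ n + 1) :
    r ∣ Nat.card (Matrix.ProjectiveSpecialLinearGroup (Fin n) F) := by
  have hq : 1 < Fintype.card F := one_lt_card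
  have hr3 : 3 ≤ r := by have := hr.two_le; omega
  have hc := card_psl (F := F) (n := n) (by omega)
  refine dvd_of_factor hr (by omega) (tri_pos (by omega)) hc ?_ ?_
  · intro hg
    have h1 : r ∣ Fintype.card F - 1 := hg.trans (Nat.gcd_dvd_right _ _)
    refine ⟨h1.trans (dvd_of_sq (by omega) (Nat.gcd_dvd_right n _) ?_), ?_⟩
    · rw [hc]
      refine Dvd.dvd.mul_left ?_ _
      obtain ⟨m, rfl⟩ := Nat.exists_eq_add_of_le' hn
      have e : m + 3 - 1 = m + 2 := rfl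
      rw [e, Finset.prod_range_succ', Finset.prod_range_succ', pow_two, mul_assoc]
      refine Dvd.dvd.mul_left ?_ _
      exact mul_dvd_mul (sub_one_dvd _ _) (sub_one_dvd _ _)
    · intro h2
      have h3 : r ∣ 1 := by
        have := (Nat.dvd_sub h2 h1)
        rwa [show Fintype.card F - (Fintype.card F - 1) = 1 by omega] at this
      exact hr.one_lt.ne' (Nat.dvd_one.1 h3)
  · intro h1
    refine h1.trans ?_
    have e : r - 1 = (r - 3) + 2 := by omega
    rw [e]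
    exact Finset.dvd_prod_of_mem (fun i => Fintype.card F ^ (i + 2) - 1) (Finset.mem_range.2 (by omega))

theorem psl_not_dvd {n r : ℕ} (hn : 3 ≤ n) (hr : r.Prime) (hr2 : r ≠ 2)
    (h : ¬ r ∣ Nat.card (Matrix.ProjectiveSpecialLinearGroup (Fin n) F)) : n + 1 ≤ r - 1 := by
  by_contra hc
  exact h (psl_dvd hn hr hr2 (by omega))

/-- `r ≤ m + 1`: `r` divides `|SL_m(q)|` -/
theorem sl_dvd {m r : ℕ} (hr : r.Prime) (hr2 : r ≠ 2) (h : r ≤ m + 1) :
    r ∣ Nat.card (Matrix.SpecialLinearGroup (Fin m) F) := by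
  have hq : 1 < Fintype.card F := one_lt_card
  have hr3 : 3 ≤ r := by have := hr.two_le; omega
  have hm : 2 ≤ m := by omega
  rw [card_sl (F := F) (n := m) (by omega)]
  refine dvd_qP hr (by omega) (tri_pos hm) ?_
  intro h1
  refine h1.trans ?_
  have e : r - 1 = (r - 3) + 2 := by omega
  rw [e]
  exact Finset.dvd_prod_of_mem (fun i => Fintype.card F ^ (i + 2) - 1) (Finset.mem_range.2 (by omega))

end lin

section symp

variable {F : Type*} [Field F] [Fintype F]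

/-- the common factor -/
theorem dvd_prod_even {q r m : ℕ} (hr : r.Prime) (hr2 : r ≠ 2) (h : r ≤ 2 * m + 1) (h1 : r ∣ q ^ (r - 1) - 1) :
    r ∣ ∏ i ∈ Finset.range m, (q ^ (2 * (i + 1)) - 1) := by
  have hr3 : 3 ≤ r := by have := hr.two_le; omega
  obtain ⟨k, hk⟩ : ∃ k, r = 2 * k + 1 := hr.odd_of_ne_two hr2
  refine h1.trans ?_
  have e : r - 1 = 2 * ((k - 1) + 1) := by omega
  rw [e]
  exact Finset.dvd_prod_of_mem (fun i => q ^ (2 * (i + 1)) - 1) (Finset.mem_range.2 (by omega))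

theorem not_dvd_two_pow {r k : ℕ} (hr : r.Prime) (hr2 : r ≠ 2) (h : r ∣ 2 ^ k) : False :=
  hr2 ((Nat.prime_dvd_prime_iff_eq hr Nat.prime_two).1 (hr.dvd_of_dvd_pow h))

/-- `r ≤ 2 m + 1`: `r` divides `|Sp_2m(q)|` -/
theorem sp_dvd {m r : ℕ} (hm : 1 ≤ m) (hr : r.Prime) (hr2 : r ≠ 2) (h : r ≤ 2 * m + 1) :
    r ∣ Nat.card (Matrix.symplecticGroup (Fin m) F) := by
  have hq : 1 < Fintype.card F := one_lt_card
  have he : m ^ 2 ≠ 0 := pow_ne_zero 2 (by omega)
  rw [S0245.result (F := F) rfl m]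
  exact dvd_qP hr (by omega) he (dvd_prod_even hr hr2 h)

theorem psp_dvd {m r : ℕ} (hm : 1 ≤ m) (hr : r.Prime) (hr2 : r ≠ 2) (h : r ≤ 2 * m + 1) :
    r ∣ Nat.card (PSp m F) := by
  have h1 := sp_dvd (F := F) hm hr hr2 h
  rw [← Subgroup.card_mul_index (Subgroup.center ↥(Matrix.symplecticGroup (Fin m) F)), S0246.result (F := F) rfl m hm] at h1
  rcases hr.dvd_mul.1 h1 with h2 | h2
  · exact (not_dvd_two_pow (k := 1) hr hr2 (h2.trans (by rw [pow_one]; exact Nat.gcd_dvd_left _ _))).elim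
  · exact h2

theorem psp_not_dvd {m r : ℕ} (hm : 1 ≤ m) (hr : r.Prime) (hr2 : r ≠ 2) (h : ¬ r ∣ Nat.card (PSp m F)) :
    2 * m + 2 ≤ r - 1 := by
  obtain ⟨k, hk⟩ : ∃ k, r = 2 * k + 1 := hr.odd_of_ne_two hr2
  by_contra hc
  exact h (psp_dvd hm hr hr2 (by omega))

end symp

section unit

variable {F : Type*} [Field F] [Fintype F] {q : ℕ}

end unit

section orth

variable {F : Type*} [Field F] [Fintype F]

/-- `r ≤ 2 m + 1`: `r` divides `|POmega_(2m+1)(q)|` -/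
theorem pomegaOdd_dvd (hodd : Odd (Fintype.card F)) {m r : ℕ} (hm : 3 ≤ m) (hr : r.Prime) (hr2 : r ≠ 2)
    (h : r ≤ 2 * m + 1) : r ∣ Nat.card (POmega F (quadFormOdd m F)) := by
  have hq : 1 < Fintype.card F := one_lt_card
  have hc := S0292.result (F := F) rfl hodd m hm
  refine dvd_of_factor hr (by omega : 0 < Fintype.card F) (pow_ne_zero 2 (by omega)) hc ?_
    (dvd_prod_even hr hr2 h)
  intro h1
  exact (not_dvd_two_pow (k := 1) hr hr2 (by rw [pow_one]; exact h1)).elim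

theorem pomegaOdd_not_dvd (hodd : Odd (Fintype.card F)) {m r : ℕ} (hm : 3 ≤ m) (hr : r.Prime) (hr2 : r ≠ 2)
    (h : ¬ r ∣ Nat.card (POmega F (quadFormOdd m F))) : 2 * m + 2 ≤ r - 1 := by
  obtain ⟨k, hk⟩ : ∃ k, r = 2 * k + 1 := hr.odd_of_ne_two hr2
  by_contra hc
  exact h (pomegaOdd_dvd hodd hm hr hr2 (by omega))

/-- `r ≤ 2 m - 1`: `r` divides `|POmega_2m^+(q)|` -/
theorem pomegaPlus_dvd {m r : ℕ} (hm : 4 ≤ m) (hr : r.Prime) (hr2 : r ≠ 2)
    (h : r ≤ 2 * m - 1) : r ∣ Nat.card (POmega F (quadFormPlus m F)) := by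
  have hq : 1 < Fintype.card F := one_lt_card
  have hc := S0293.result (F := F) rfl m hm
  rw [mul_assoc] at hc
  refine dvd_of_factor hr (by omega : 0 < Fintype.card F) (Nat.mul_ne_zero (by omega) (by omega)) hc ?_
    (fun h1 => (dvd_prod_even hr hr2 (by omega) h1).mul_left _)
  intro h1
  exact (not_dvd_two_pow (k := 2) hr hr2 (h1.trans (Nat.gcd_dvd_left 4 _))).elim

theorem pomegaPlus_not_dvd {m r : ℕ} (hm : 4 ≤ m) (hr : r.Prime) (hr2 : r ≠ 2)
    (h : ¬ r ∣ Nat.card (POmega F (quadFormPlus m F))) : 2 * m ≤ r - 1 := by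
  obtain ⟨k, hk⟩ : ∃ k, r = 2 * k + 1 := hr.odd_of_ne_two hr2
  by_contra hc
  exact h (pomegaPlus_dvd hm hr hr2 (by omega))

/-- `r ≤ 2 m - 1`: `r` divides `|POmega_2m^-(q)|` -/
theorem pomegaMinus_dvd {m r : ℕ} (hm : 4 ≤ m) {a b : F}
    (hab : ∀ z₁ z₂ : F, z₁ ^ 2 + a * z₁ * z₂ + b * z₂ ^ 2 = 0 → z₁ = 0 ∧ z₂ = 0) (hr : r.Prime) (hr2 : r ≠ 2)
    (h : r ≤ 2 * m - 1) : r ∣ Nat.card (POmega F (quadFormMinus (m - 1) F a b)) := by
  have hq : 1 < Fintype.card F := one_lt_card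
  have hc := S0294.result (F := F) rfl m hm a b hab
  rw [mul_assoc] at hc
  refine dvd_of_factor hr (by omega : 0 < Fintype.card F) (Nat.mul_ne_zero (by omega) (by omega)) hc ?_
    (fun h1 => (dvd_prod_even hr hr2 (by omega) h1).mul_left _)
  intro h1
  exact (not_dvd_two_pow (k := 2) hr hr2 (h1.trans (Nat.gcd_dvd_left 4 _))).elim

theorem pomegaMinus_not_dvd {m r : ℕ} (hm : 4 ≤ m) {a b : F}
    (hab : ∀ z₁ z₂ : F, z₁ ^ 2 + a * z₁ * z₂ + b * z₂ ^ 2 = 0 → z₁ = 0 ∧ z₂ = 0) (hr : r.Prime) (hr2 : r ≠ 2)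
    (h : ¬ r ∣ Nat.card (POmega F (quadFormMinus (m - 1) F a b))) : 2 * m ≤ r - 1 := by
  obtain ⟨k, hk⟩ : ∃ k, r = 2 * k + 1 := hr.odd_of_ne_two hr2
  by_contra hc
  exact h (pomegaMinus_dvd hm hab hr hr2 (by omega))

end orth

/-! ### The trichotomy -/

section tri

/-- the common form -/
theorem tri_of {L : Type*} [Group L] [Finite L] {x : MulAut L} {r d : ℕ} (hd : 1 ≤ d)
    (hinj : Function.Injective (MulAut.conj : L →* MulAut L)) (hnum : ¬ r ∣ Nat.card L → d ≤ r - 1)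
    (h : Reach x d ⊤) (h3 : r ∣ Nat.card L → 2 * (r - 2) < d → _root_.Cfsg.Agent.H915.Gs.Ord x (2 * (r - 2)) r) : Tri r x := by
  refine Tri.of_reach hd hinj h (Or.inr ⟨hnum, fun hr => ?_⟩)
  rcases Nat.lt_or_ge (2 * (r - 2)) d with h1 | h1
  · exact Or.inr (h3 hr h1)
  · exact Or.inl h1

variable {F : Type*} [Field F] [Fintype F] {r : ℕ}

theorem tri_psl {n : ℕ} (hn : 3 ≤ n) (hr : r.Prime) (hr2 : r ≠ 2)
    (hinj : Function.Injective (MulAut.conj : Matrix.ProjectiveSpecialLinearGroup (Fin n) F →*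
      MulAut (Matrix.ProjectiveSpecialLinearGroup (Fin n) F)))
    {x : MulAut (Matrix.ProjectiveSpecialLinearGroup (Fin n) F)} (h : Reach x (n + 1) ⊤)
    (h3 : r ∣ Nat.card (Matrix.ProjectiveSpecialLinearGroup (Fin n) F) → 2 * (r - 2) < n + 1 →
      _root_.Cfsg.Agent.H915.Gs.Ord x (2 * (r - 2)) r) : Tri r x :=
  tri_of (by omega) hinj (psl_not_dvd hn hr hr2) h h3

theorem tri_psp {m : ℕ} (hm : 1 ≤ m) (hr : r.Prime) (hr2 : r ≠ 2)
    (hinj : Function.Injective (MulAut.conj : PSp m F →* MulAut (PSp m F)))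
    {x : MulAut (PSp m F)} (h : Reach x (2 * m + 2) ⊤)
    (h3 : r ∣ Nat.card (PSp m F) → 2 * (r - 2) < 2 * m + 2 → _root_.Cfsg.Agent.H915.Gs.Ord x (2 * (r - 2)) r) : Tri r x :=
  tri_of (by omega) hinj (psp_not_dvd hm hr hr2) h h3

end tri

end Cfsg.Agent.H919.Gs
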